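import Cfsg.Agent.H776.P4.Stmts

/-!
# S5210: the group `Q = q^{1+4}` of `PG K` modulo `Z` (helper675)

* `exists_prim`, `exists_sq`, `exists_theta`: elements of the field;
* the centre of `Q`; `CZ`: the automorphisms of `Q` trivial on `Q/Z`, a normal subgroup of `Aut(Q)`;
* `cjQ`: conjugation by `PG K` on `Q`; `rst`: restriction of the elements of `TP K` to `Q`.
-/

set_option autoImplicit false

namespace Cfsg.Agent.H675.P4

open Cfsg Cfsg.FusionSystem Cfsg.Agent.H776.P4
open Cfsg.Agent.H756.PU (HypK Ess Inv Com NormAut TIAut AF)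

universe u

variable {K : Type u} [Field K] [StarRing K] {p n : ℕ}

section Field

theorem two_le_q (h : HypK K p n) : 2 ≤ p ^ n := by
  have h1 : p ^ 1 ≤ p ^ n := Nat.pow_le_pow_right h.pp.pos h.hn
  have := h.pp.two_le
  rw [pow_one] at h1
  omega

theorem exists_prim (h : HypK K p n) : ∃ t : K, t ≠ 0 ∧ ∀ m, 0 < m → m < (p ^ n) ^ 2 - 1 → t ^ m ≠ 1 := by
  have := h.fin
  have : Finite Kˣ := inferInstance
  obtain ⟨g, hg⟩ := IsCyclic.exists_ofOrder_eq_natCard (α := Kˣ)
  refine ⟨g, g.ne_zero, fun m hm0 hm h1 => ?_⟩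
  have h2 : g ^ m = 1 := by
    apply Units.ext
    rw [Units.val_pow_eq_pow_val, h1, Units.val_one]
  have h3 := orderOf_dvd_of_pow_eq_one h2
  rw [hg, Nat.card_units, h.card] at h3
  exact absurd (Nat.le_of_dvd hm0 h3) (by omega)

theorem exists_theta (h : HypK K p n) : ∃ θ : K, θ + star θ = 1 := by
  obtain ⟨t, ht0, ht⟩ := exists_prim h
  have hq := two_le_q h
  have hs : t + star t ≠ 0 := by
    intro he
    refine ht (2 * (p ^ n - 1)) (by omega) ?_ ?_
    · obtain ⟨k, hk⟩ : ∃ k, p ^ n = k + 2 := ⟨p ^ n - 2, by omega⟩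
      rw [hk]
      have : (k + 2) ^ 2 = k * k + 4 * k + 4 := by ring
      rw [this]
      have : 2 * (k + 2 - 1) = 2 * k + 2 := by omega
      rw [this]
      have : 0 ≤ k * k := Nat.zero_le _
      omega
    · rw [h.star_eq] at he
      have h1 : t ^ (p ^ n - 1) = -1 := by
        have h2 : t * t ^ (p ^ n - 1) = t * (-1) := by
          rw [← pow_succ', Nat.sub_add_cancel (by omega)]
          linear_combination he
        exact mul_left_cancel₀ ht0 h2
      rw [mul_comm, pow_mul, h1]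
      ring
  refine ⟨t / (t + star t), ?_⟩
  rw [star_div₀, star_add, star_star, add_comm (star t) t, ← add_div, div_self hs]

/-- for `q > 3` there is `t ∈ k` with `t² ≠ 1` -/
theorem exists_sq (h : HypK K p n) (h3 : 3 < p ^ n) : ∃ t : K, t ≠ 0 ∧ star t = t ∧ t ^ 2 ≠ 1 := by
  obtain ⟨t, ht0, ht⟩ := exists_prim h
  have hst : star t = t ^ (p ^ n) := h.star_eq t
  refine ⟨t * star t, mul_ne_zero ht0 ((star_ne_zero).2 ht0), ?_, ?_⟩
  · rw [star_mul', star_star, mul_comm]
  · intro h1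
    refine ht ((p ^ n + 1) * 2) (by omega) ?_ ?_
    · obtain ⟨k, hk⟩ : ∃ k, p ^ n = k + 4 := ⟨p ^ n - 4, by omega⟩
      rw [hk]
      have : (k + 4) ^ 2 = k * k + 8 * k + 16 := by ring
      rw [this]
      have : 0 ≤ k * k := Nat.zero_le _
      omega
    · rw [pow_mul, pow_succ t (p ^ n), ← hst, mul_comm (star t) t]
      exact h1

end Field

section Q

theorem q_r (e f : PQ K) : ((e * f : PQ K) : PG K).r = (e : PG K).r + (f : PG K).r := rfl

theorem q_b (e f : PQ K) : ((e * f : PQ K) : PG K).b = (e : PG K).b + (f : PG K).b := by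
  have hf : (f : PG K).c = 0 := f.2
  change (e : PG K).b + (f : PG K).b + (e : PG K).r * (f : PG K).c = _
  rw [hf, mul_zero, add_zero]

theorem q_a (e f : PQ K) : ((e * f : PQ K) : PG K).a = (e : PG K).a + (f : PG K).a +
    (e : PG K).r * star (f : PG K).b + star (e : PG K).r * (f : PG K).b := by
  have hf : (f : PG K).c = 0 := f.2
  change (e : PG K).a + (f : PG K).a + (e : PG K).r * star (f : PG K).b + star (e : PG K).r * (f : PG K).b +
    (e : PG K).r * star (e : PG K).r * (f : PG K).c = _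
  rw [hf, mul_zero, add_zero]

theorem qi_r (e : PQ K) : ((e⁻¹ : PQ K) : PG K).r = - (e : PG K).r := rfl

theorem qi_b (e : PQ K) : ((e⁻¹ : PQ K) : PG K).b = - (e : PG K).b := by
  have he : (e : PG K).c = 0 := e.2
  change - (e : PG K).b + (e : PG K).r * (e : PG K).c = _
  rw [he, mul_zero, add_zero]

theorem ext_q {e f : PQ K} (hr : (e : PG K).r = (f : PG K).r) (ha : (e : PG K).a = (f : PG K).a)
    (hb : (e : PG K).b = (f : PG K).b) : e = f := by
  have he : (e : PG K).c = 0 := e.2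
  have hf : (f : PG K).c = 0 := f.2
  exact Subtype.ext (PG.ext hr ha hb (he.trans hf.symm))

/-- the element `(r, 0, b, 0)` -/
def mk (r b : K) : PQ K := ⟨⟨r, 0, b, 0, star_zero _, star_zero _⟩, rfl⟩

@[simp] theorem mk_r (r b : K) : (mk r b : PG K).r = r := rfl
@[simp] theorem mk_b (r b : K) : (mk r b : PG K).b = b := rfl

/-- the elements of `Z` -/
def InZ (e : PQ K) : Prop := (e : PG K).r = 0 ∧ (e : PG K).b = 0

theorem inZ_iff (h : HypK K p n) {e : PQ K} : InZ e ↔ ∀ f : PQ K, e * f = f * e := by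
  constructor
  · rintro ⟨h1, h2⟩ f
    apply ext_q
    · rw [q_r, q_r, add_comm]
    · rw [q_a, q_a, h1, h2, star_zero]; ring
    · rw [q_b, q_b, add_comm]
  · intro H
    obtain ⟨θ, hθ⟩ := exists_theta h
    have key : ∀ f : PQ K, (e : PG K).r * star (f : PG K).b + star (e : PG K).r * (f : PG K).b =
        (f : PG K).r * star (e : PG K).b + star (f : PG K).r * (e : PG K).b := by
      intro f
      have h1 := congrArg (fun x : PQ K => (x : PG K).a) (H f)
      simp only [q_a] at h1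
      linear_combination h1
    constructor
    · by_contra hr
      have h1 := key (mk 0 (θ / star (e : PG K).r))
      simp only [mk_b, mk_r, star_div₀, star_star, zero_mul, star_zero, add_zero] at h1
      have hr' : star (e : PG K).r ≠ 0 := star_ne_zero.2 hr
      rw [mul_div_cancel₀ _ hr, mul_div_cancel₀ _ hr'] at h1
      have : θ + star θ = 0 := by linear_combination h1
      rw [hθ] at this
      exact one_ne_zero this
    · by_contra hb
      have h1 := key (mk (θ / star (e : PG K).b) 0)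
      simp only [mk_b, mk_r, star_div₀, star_star, mul_zero, star_zero, add_zero] at h1
      have hb' : star (e : PG K).b ≠ 0 := star_ne_zero.2 hb
      rw [div_mul_cancel₀ _ hb', div_mul_cancel₀ _ hb, hθ] at h1
      exact zero_ne_one h1

theorem inZ_map (h : HypK K p n) (γ : MulAut (PQ K)) {e : PQ K} (he : InZ e) : InZ (γ e) := by
  rw [inZ_iff h] at he ⊢
  intro f
  have h1 := congrArg γ (he (γ⁻¹ f))
  rw [map_mul, map_mul, MulAut.apply_inv_self] at h1
  exact h1

/-- same image in `Q/Z` -/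
theorem inZ_iff_eq (e f : PQ K) : InZ (e⁻¹ * f) ↔ (f : PG K).r = (e : PG K).r ∧ (f : PG K).b = (e : PG K).b := by
  unfold InZ
  rw [q_r, q_b, qi_r, qi_b]
  constructor
  · rintro ⟨h1, h2⟩
    exact ⟨by linear_combination h1, by linear_combination h2⟩
  · rintro ⟨h1, h2⟩
    exact ⟨by linear_combination h1, by linear_combination h2⟩

theorem eqv_map (h : HypK K p n) (γ : MulAut (PQ K)) {e f : PQ K}
    (H : (f : PG K).r = (e : PG K).r ∧ (f : PG K).b = (e : PG K).b) :
    ((γ f : PQ K) : PG K).r = ((γ e : PQ K) : PG K).r ∧ ((γ f : PQ K) : PG K).b = ((γ e : PQ K) : PG K).b := by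
  rw [← inZ_iff_eq] at H ⊢
  have h1 := inZ_map h γ H
  rwa [map_mul, map_inv] at h1

variable (K) in
/-- the automorphisms of `Q` trivial on `Q/Z` -/
def CZ : Subgroup (MulAut (PQ K)) where
  carrier := {α | ∀ e : PQ K, ((α e : PQ K) : PG K).r = (e : PG K).r ∧ ((α e : PQ K) : PG K).b = (e : PG K).b}
  one_mem' := fun e => ⟨rfl, rfl⟩
  mul_mem' := by
    intro α β hα hβ e
    exact ⟨(hα (β e)).1.trans (hβ e).1, (hα (β e)).2.trans (hβ e).2⟩
  inv_mem' := by
    intro α hα e
    have h1 := hα (α⁻¹ e)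
    rw [MulAut.apply_inv_self] at h1
    exact ⟨h1.1.symm, h1.2.symm⟩

theorem mem_CZ {α : MulAut (PQ K)} : α ∈ CZ K ↔
    ∀ e : PQ K, ((α e : PQ K) : PG K).r = (e : PG K).r ∧ ((α e : PQ K) : PG K).b = (e : PG K).b := Iff.rfl

theorem CZ_normal (h : HypK K p n) : (CZ K).Normal := by
  refine ⟨fun α hα γ e => ?_⟩
  have h1 := eqv_map h γ (hα (γ⁻¹ e))
  rw [MulAut.apply_inv_self] at h1
  exact h1

theorem eqv_iff (h : HypK K p n) {α β : MulAut (PQ K)} : β⁻¹ * α ∈ CZ K ↔
    ∀ e : PQ K, ((α e : PQ K) : PG K).r = ((β e : PQ K) : PG K).r ∧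
      ((α e : PQ K) : PG K).b = ((β e : PQ K) : PG K).b := by
  constructor
  · intro H e
    have h1 := eqv_map h β (H e)
    rw [MulAut.mul_apply, MulAut.apply_inv_self] at h1
    exact h1
  · intro H e
    have h1 := eqv_map h β⁻¹ (H e)
    rw [MulAut.inv_apply_self] at h1
    exact h1

/-- for a subgroup `H`, the automorphisms acting like elements of `H` on `Q/Z` -/
theorem mem_sup_CZ (h : HypK K p n) {H : Subgroup (MulAut (PQ K))} {α : MulAut (PQ K)} : α ∈ H ⊔ CZ K ↔
    ∃ β ∈ H, ∀ e : PQ K, ((α e : PQ K) : PG K).r = ((β e : PQ K) : PG K).r ∧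
      ((α e : PQ K) : PG K).b = ((β e : PQ K) : PG K).b := by
  have hn := CZ_normal h
  rw [Subgroup.mem_sup_of_normal_right]
  constructor
  · rintro ⟨β, hβ, c, hc, rfl⟩
    refine ⟨β, hβ, (eqv_iff h).1 ?_⟩
    rwa [inv_mul_cancel_left]
  · rintro ⟨β, hβ, H⟩
    exact ⟨β, hβ, β⁻¹ * α, (eqv_iff h).2 H, mul_inv_cancel_left _ _⟩

end Q

section conj

theorem conj_mem (x : PG K) (e : PQ K) : x * (e : PG K) * x⁻¹ ∈ PQ K := by
  have he : (e : PG K).c = 0 := e.2
  change x.c + (e : PG K).c + (x⁻¹).c = 0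
  rw [he, PG.inv_c]
  ring

instance : (PQ K).Normal := ⟨fun e he x => conj_mem x ⟨e, he⟩⟩

/-- conjugation on `Q` -/
def cjQ : PG K →* MulAut (PQ K) := MulAut.conjNormal

theorem cjQ_apply (x : PG K) (e : PQ K) : ((cjQ x e : PQ K) : PG K) = x * e * x⁻¹ := rfl

theorem cjQ_mem (x : PG K) : cjQ x ∈ autInducedBy ⊤ (PQ K) :=
  Subgroup.subset_closure ⟨x, trivial, fun _ => rfl⟩

theorem aut_eq : autInducedBy ⊤ (PQ K) = (cjQ (K := K)).range := by
  apply le_antisymm
  · rw [autInducedBy, Subgroup.closure_le]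
    rintro α ⟨g, -, hg⟩
    refine ⟨g, ?_⟩
    ext1 e
    exact Subtype.ext (hg e).symm
  · rintro _ ⟨x, rfl⟩
    exact cjQ_mem x

theorem cjQ_r (x : PG K) (e : PQ K) : ((cjQ x e : PQ K) : PG K).r = (e : PG K).r := by
  rw [cjQ_apply]
  simp

theorem cjQ_b (x : PG K) (e : PQ K) : ((cjQ x e : PQ K) : PG K).b = (e : PG K).b - x.c * (e : PG K).r := by
  have he : (e : PG K).c = 0 := e.2
  rw [cjQ_apply]
  simp only [PG.mul_b, PG.mul_r, PG.inv_b, PG.inv_c, he]
  ring

/-- an automorphism in `TP K` restricts to `Q` -/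
theorem exists_rst {α : MulAut (PG K)} {s l : K} {τ : K ≃+* K} (hα : IsTorP α s l τ) :
    ∃ δ : MulAut (PQ K), IsRP α δ := by
  have h1 : ∀ g : PG K, g ∈ PQ K → α g ∈ PQ K := by
    intro g hg
    have hg' : g.c = 0 := hg
    change (α g).c = 0
    rw [hα.c, hg', map_zero, mul_zero]
  have h2 : ∀ g : PG K, g ∈ PQ K → α⁻¹ g ∈ PQ K := by
    intro g hg
    have hg' : g.c = 0 := hg
    have h3 := hα.c (α⁻¹ g)
    rw [MulAut.apply_inv_self, hg'] at h3
    have h4 : τ (α⁻¹ g).c = 0 := by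
      rcases mul_eq_zero.1 h3.symm with h | h
      · exact absurd h hα.nl
      · exact h
    exact (map_eq_zero_iff τ τ.injective).1 h4
  refine ⟨{ toFun := fun e => ⟨α e, h1 e e.2⟩, invFun := fun e => ⟨α⁻¹ (e : PG K), h2 e e.2⟩,
            left_inv := fun e => Subtype.ext (MulAut.inv_apply_self _ _ _),
            right_inv := fun e => Subtype.ext (MulAut.apply_inv_self _ _ _),
            map_mul' := fun x y => Subtype.ext (map_mul α _ _) }, fun e => rfl⟩

end conj

end Cfsg.Agent.H675.P4
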